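import Mathlib.Algebra.Module.FinitePresentation
import Mathlib.LinearAlgebra.Matrix.NonsingularInverse
import Mathlib.LinearAlgebra.Matrix.ToLin
import Mathlib.LinearAlgebra.Dual.Lemmas
import Mathlib.RingTheory.Localization.Away.Basic
import Mathlib.RingTheory.Ideal.Quotient.Basic
import Mathlib.Algebra.Module.Torsion.Basic
import Mathlib.Algebra.Module.LocalizedModule.Basic

/-!
Split injections from finite free modules near a maximal ideal.
-/

set_option autoImplicit false
set_option linter.style.haveILetI false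
universe u

namespace Groth.Agent.SplitAt

variable {R : Type u} [CommRing R] {M : Type u} [AddCommGroup M] [Module R M]

theorem mkQ_mem_span_iff (x : Ideal R) (m : M) :
    (x • ⊤ : Submodule R M).mkQ m ∈
        Submodule.span (R ⧸ x) ((x • ⊤ : Submodule R M).mkQ '' {m : M | ∀ φ : M →ₗ[R] R, φ m ∈ x}) ↔
      ∀ φ : M →ₗ[R] R, φ m ∈ x := by
  refine ⟨fun h φ => ?_, fun h => Submodule.subset_span ⟨m, h, rfl⟩⟩
  let φb : M ⧸ (x • ⊤ : Submodule R M) →ₗ[R] R ⧸ x :=
    (x • ⊤ : Submodule R M).liftQ (x.mkQ.comp φ) fun y hy => by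
      refine (Submodule.Quotient.mk_eq_zero _).2 ?_
      induction hy using Submodule.smul_induction_on' with
      | smul a ha b _ => rw [map_smul, smul_eq_mul]; exact x.mul_mem_right _ ha
      | add a _ b _ ha hb => rw [map_add]; exact x.add_mem ha hb
  have key : ∀ y ∈ Submodule.span (R ⧸ x) ((x • ⊤ : Submodule R M).mkQ '' {m : M | ∀ φ : M →ₗ[R] R, φ m ∈ x}),
      φb y = 0 := by
    intro y hy
    induction hy using Submodule.span_induction with
    | mem z hz =>
      obtain ⟨m₀, hm₀, rfl⟩ := hz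
      exact (Submodule.Quotient.mk_eq_zero _).2 (hm₀ φ)
    | zero => exact map_zero _
    | add a b _ _ ha hb => rw [map_add, ha, hb, add_zero]
    | smul c a _ ha =>
      obtain ⟨c, rfl⟩ := Ideal.Quotient.mk_surjective c
      rw [show Ideal.Quotient.mk x c • a = c • a from rfl, map_smul, ha, smul_zero]
  exact (Submodule.Quotient.mk_eq_zero _).1 (key _ h)

theorem linearIndependent_iff (x : Ideal R) {r : ℕ} (s : Fin r → M) :
    LinearIndependent (R ⧸ x) (fun i => (Submodule.span (R ⧸ x)
        ((x • ⊤ : Submodule R M).mkQ '' {m : M | ∀ φ : M →ₗ[R] R, φ m ∈ x})).mkQ ((x • ⊤ : Submodule R M).mkQ (s i))) ↔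
      ∀ c : Fin r → R, (∀ φ : M →ₗ[R] R, φ (∑ i, c i • s i) ∈ x) → ∀ i, c i ∈ x := by
  have hsum : ∀ c : Fin r → R, (∑ i, Ideal.Quotient.mk x (c i) • (Submodule.span (R ⧸ x)
        ((x • ⊤ : Submodule R M).mkQ '' {m : M | ∀ φ : M →ₗ[R] R, φ m ∈ x})).mkQ
          ((x • ⊤ : Submodule R M).mkQ (s i))) = 0 ↔ ∀ φ : M →ₗ[R] R, φ (∑ i, c i • s i) ∈ x := by
    intro c
    rw [← mkQ_mem_span_iff x, map_sum]
    simp only [← map_smul, ← map_sum]
    rw [Submodule.mkQ_apply, Submodule.Quotient.mk_eq_zero, map_sum (x • ⊤ : Submodule R M).mkQ]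
    rfl
  rw [Fintype.linearIndependent_iff]
  constructor
  · intro h c hc i
    exact Ideal.Quotient.eq_zero_iff_mem.1 (h (fun i => Ideal.Quotient.mk x (c i)) ((hsum c).2 hc) i)
  · intro h g hg i
    choose c hc using fun i => Ideal.Quotient.mk_surjective (g i)
    obtain rfl : g = fun i => Ideal.Quotient.mk x (c i) := funext fun i => (hc i).symm
    exact Ideal.Quotient.eq_zero_iff_mem.2 (h c ((hsum c).1 hg) i)

theorem of_split [Module.FinitePresentation R M] (x : Ideal R) [x.IsMaximal] {r : ℕ} (s : Fin r → M) {f : R}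
    (hf : f ∉ x) (g : LocalizedModule (Submonoid.powers f) M →ₗ[Localization.Away f] (Fin r → Localization.Away f))
    (hg : g ∘ₗ Fintype.linearCombination (Localization.Away f)
      (fun i => LocalizedModule.mkLinearMap (Submonoid.powers f) M (s i)) = LinearMap.id)
    (c : Fin r → R) (hc : ∀ φ : M →ₗ[R] R, φ (∑ i, c i • s i) ∈ x) (j : Fin r) : c j ∈ x := by
  classical
  let ψ : M →ₗ[R] Localization.Away f :=
    (LinearMap.proj j).comp ((g.restrictScalars R).comp (LocalizedModule.mkLinearMap (Submonoid.powers f) M))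
  obtain ⟨φ, ⟨t, ht⟩, hφ⟩ := Module.FinitePresentation.exists_lift_of_isLocalizedModule (Submonoid.powers f)
    (Algebra.linearMap R (Localization.Away f)) ψ
  have hψ : ∀ i, ψ (s i) = (Pi.single i 1 : Fin r → Localization.Away f) j := fun i => by
    have := LinearMap.congr_fun hg (Pi.single i 1)
    rw [LinearMap.comp_apply, Fintype.linearCombination_apply_single, one_smul, LinearMap.id_apply] at this
    exact congrFun this j
  have h1 : algebraMap R (Localization.Away f) (φ (∑ i, c i • s i)) = algebraMap R _ (t * c j) := by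
    refine (LinearMap.congr_fun hφ (∑ i, c i • s i)).trans ?_
    rw [LinearMap.smul_apply, map_sum]
    simp only [map_smul, hψ]
    rw [Finset.sum_eq_single j, Pi.single_eq_same, Submonoid.smul_def, Algebra.smul_def, Algebra.smul_def,
      mul_one, map_mul]
    · intro b _ hb
      rw [Pi.single_eq_of_ne (Ne.symm hb), smul_zero]
    · intro hj
      exact absurd (Finset.mem_univ j) hj
  letI := Ideal.Quotient.field x
  have hu : IsUnit (Ideal.Quotient.mk x f) := IsUnit.mk0 _ fun h => hf (Ideal.Quotient.eq_zero_iff_mem.1 h)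
  have h2 := congrArg (IsLocalization.Away.lift f hu (S := Localization.Away f)) h1
  rw [IsLocalization.Away.lift_eq, IsLocalization.Away.lift_eq, Ideal.Quotient.eq_zero_iff_mem.2 (hc φ)] at h2
  have h3 : t * c j ∈ x := Ideal.Quotient.eq_zero_iff_mem.1 h2.symm
  refine (Ideal.IsPrime.mem_or_mem inferInstance h3).resolve_left fun h4 => ?_
  obtain ⟨n, rfl⟩ := ht
  exact hf (Ideal.IsPrime.mem_of_pow_mem inferInstance _ h4)

theorem split_of (x : Ideal R) [x.IsMaximal] {r : ℕ} (s : Fin r → M)
    (h : ∀ c : Fin r → R, (∀ φ : M →ₗ[R] R, φ (∑ i, c i • s i) ∈ x) → ∀ i, c i ∈ x) :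
    ∃ f : R, f ∉ x ∧ ∃ g : LocalizedModule (Submonoid.powers f) M →ₗ[Localization.Away f] (Fin r → Localization.Away f),
      g ∘ₗ Fintype.linearCombination (Localization.Away f)
        (fun i => LocalizedModule.mkLinearMap (Submonoid.powers f) M (s i)) = LinearMap.id := by
  classical
  letI := Ideal.Quotient.field x
  let L : (M →ₗ[R] R) →ₗ[R] (Fin r → R ⧸ x) :=
    LinearMap.pi fun i => x.mkQ.comp (LinearMap.applyₗ (s i))
  let W : Submodule (R ⧸ x) (Fin r → R ⧸ x) :=
    { carrier := Set.range L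
      add_mem' := by
        rintro _ _ ⟨a, rfl⟩ ⟨b, rfl⟩
        exact ⟨a + b, map_add _ _ _⟩
      zero_mem' := ⟨0, map_zero _⟩
      smul_mem' := by
        rintro c _ ⟨a, rfl⟩
        obtain ⟨c, rfl⟩ := Ideal.Quotient.mk_surjective c
        exact ⟨c • a, map_smul L c a⟩ }
  have hW : W = ⊤ := by
    by_contra hne
    obtain ⟨ℓ, hℓ, hker⟩ := W.exists_le_ker_of_lt_top (lt_top_iff_ne_top.2 hne)
    choose c hc using fun i => Ideal.Quotient.mk_surjective (ℓ (Pi.single i 1))
    have hzero : ∀ i, c i ∈ x := h c fun φ => by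
      rw [← Ideal.Quotient.eq_zero_iff_mem]
      have h1 : ℓ (L φ) = 0 := hker ⟨φ, rfl⟩
      rw [pi_eq_sum_univ' (L φ), map_sum] at h1
      rw [← h1, map_sum, map_sum]
      refine Finset.sum_congr rfl fun i _ => ?_
      rw [map_smul, smul_eq_mul, map_mul, map_smul, hc i, smul_eq_mul, mul_comm]
      rfl
    refine hℓ (LinearMap.pi_ext fun i v => ?_)
    rw [show (Pi.single i v : Fin r → R ⧸ x) = v • Pi.single i 1 by
      rw [← Pi.single_smul, smul_eq_mul, mul_one], map_smul, ← hc i, Ideal.Quotient.eq_zero_iff_mem.2 (hzero i),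
      smul_zero]
    rfl
  choose φ hφ using fun j => (hW.ge (Submodule.mem_top (x := (Pi.single j 1 : Fin r → R ⧸ x))) :
    Pi.single j 1 ∈ W)
  let A : Matrix (Fin r) (Fin r) R := Matrix.of fun j i => φ j (s i)
  have hA : A.map (Ideal.Quotient.mk x) = 1 := by
    ext j i
    rw [Matrix.map_apply, Matrix.one_apply]
    refine (congrFun (hφ j) i).trans ?_
    rw [Pi.single_apply]
    exact if_congr eq_comm rfl rfl
  have hdet : A.det ∉ x := fun h0 => by
    have h1 := (Ideal.Quotient.mk x).map_det A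
    rw [RingHom.mapMatrix_apply, hA, Matrix.det_one, Ideal.Quotient.eq_zero_iff_mem.2 h0] at h1
    exact one_ne_zero h1.symm
  refine ⟨A.det, hdet, ?_⟩
  let S := Submonoid.powers A.det
  let L' := Localization.Away A.det
  let A' : Matrix (Fin r) (Fin r) L' := A.map (algebraMap R L')
  have hA' : IsUnit A'.det := by
    have h1 := (algebraMap R L').map_det A
    rw [RingHom.mapMatrix_apply] at h1
    rw [← h1]
    exact IsLocalization.Away.algebraMap_isUnit A.det
  let ψ : M →ₗ[R] (Fin r → L') :=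
    ((Matrix.toLin' A'⁻¹).restrictScalars R).comp (LinearMap.pi fun j => (Algebra.linearMap R L').comp (φ j))
  have hunit : ∀ a : S, IsUnit (algebraMap R (Module.End R (Fin r → L')) a) := fun a => by
    obtain ⟨u, hu⟩ := IsLocalization.map_units L' a
    refine (Module.End.isUnit_iff _).2 ⟨fun v w hvw => ?_, fun v => ⟨(↑u⁻¹ : L') • v, ?_⟩⟩
    · replace hvw : (a : R) • v = (a : R) • w := hvw
      rw [← algebraMap_smul L' (a : R) v, ← algebraMap_smul L' (a : R) w, ← hu] at hvw
      exact (Units.isUnit u).smul_left_cancel.1 hvw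
    · change (a : R) • ((↑u⁻¹ : L') • v) = v
      rw [← algebraMap_smul L' (a : R), ← hu, smul_smul, Units.mul_inv, one_smul]
  let g₀ : LocalizedModule S M →ₗ[R] (Fin r → L') :=
    IsLocalizedModule.lift S (LocalizedModule.mkLinearMap S M) ψ hunit
  refine ⟨g₀.extendScalarsOfIsLocalization S L', LinearMap.pi_ext fun i v => ?_⟩
  rw [show (Pi.single i v : Fin r → L') = v • Pi.single i 1 by
      rw [← Pi.single_smul, smul_eq_mul, mul_one], map_smul, map_smul]
  congr 1
  rw [LinearMap.comp_apply, Fintype.linearCombination_apply_single, one_smul, LinearMap.id_apply]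
  refine (IsLocalizedModule.lift_apply S (LocalizedModule.mkLinearMap S M) ψ hunit (s i)).trans ?_
  change Matrix.toLin' A'⁻¹ (fun j => algebraMap R L' (φ j (s i))) = _
  rw [show (fun j => algebraMap R L' (φ j (s i))) = A'.mulVec (Pi.single i 1) by
    rw [Matrix.mulVec_single_one]; rfl, Matrix.toLin'_apply, Matrix.mulVec_mulVec,
    Matrix.nonsing_inv_mul _ hA', Matrix.one_mulVec]

end Groth.Agent.SplitAt
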